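import Groth.Agent.Lib.GGFlat29.Main
import Groth.Agent.Lib.Cube.Torsion
import Groth.Agent.Lib.Ample.Twisting
import Groth.Agent.Lib.Ample.ProjSections
import Groth.Agent.Lib.Ample.Generation
import Groth.Agent.Lib.Ample.Criterion

/-!
# Descending a generated class with a descended power along a contraction
-/

set_option autoImplicit false
set_option linter.style.haveILetI false
set_option backward.isDefEq.respectTransparency false
set_option maxHeartbeats 1000000

universe u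

noncomputable section

open CategoryTheory CategoryTheory.Limits AlgebraicGeometry Opposite TopologicalSpace
open GrothLib.InvExt (mres fres IsGen)

namespace GrothLib.PicDescend29

open GrothLib.Ample GrothLib.Cube

variable {X Y : Scheme.{u}}

/-- A class is pointwise generated. -/
def Gen (x : Pic X) : Prop := ∀ p : X, ∃ U : X.Opens, p ∈ U ∧ HasSec x U

theorem gen_of_gg {L : X.Modules} (hL : PicF.IsInvertible L) (h : Curv2.IsGloballyGenerated L) :
    Gen (clsMod hL) := fun p => by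
  obtain ⟨c, ⟨e⟩⟩ := exists_cocycle hL
  obtain ⟨s, hs⟩ := GGFlat29.exists_genAt (c.isInvertible_twist 1) (isGloballyGenerated_of_iso e h) p
  let a : c.sect 1 ⊤ := s
  refine ⟨c.locus a, ?_, c, a, (clsMod_eq hL e).symm, rfl⟩
  obtain ⟨i, hi⟩ := c.exists_mem p
  have hT : (⊤ ⊓ c.D i : X.Opens) ≤ c.D i := inf_le_right
  have hc : mres (c.twist 1) (le_top : (⊤ ⊓ c.D i : X.Opens) ≤ ⊤) s = (a.1 i) • c.base 1 i hT := by
    refine c.sect_ext_of_le hT ?_
    show (c.sectRes (le_top : (⊤ ⊓ c.D i : X.Opens) ≤ ⊤) a).1 i = _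
    rw [Cocycle.smul_apply, Cocycle.base_self, mul_one]
    rfl
  have := (VA.genAt_iff_mem_basicOpen le_top (c.isGen_base 1 i hT) hc ⟨trivial, hi⟩).1 hs
  exact Opens.mem_iSup.2 ⟨i, this⟩

theorem gg_of_gen {L : X.Modules} (hL : PicF.IsInvertible L) (h : Gen (clsMod hL)) :
    Curv2.IsGloballyGenerated L := by
  obtain ⟨c, ⟨e⟩⟩ := exists_cocycle hL
  refine isGloballyGenerated_of_iso e.symm (c.isGloballyGenerated_of_generated fun p => ?_)
  obtain ⟨U, hp, d, b, hd, rfl⟩ := h p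
  rw [clsMod_eq hL e] at hd
  obtain ⟨e'⟩ := cls_eq_iff.1 hd.symm
  obtain ⟨s, hs⟩ := d.exists_section_of_sect e' b
  obtain ⟨a, ha⟩ := c.exists_sect_of_section (Iso.refl _) s
  exact ⟨a, by rw [ha, hs]; exact hp⟩

theorem gen_pull (π : X ⟶ Y) {y : Pic Y} (h : Gen y) : Gen (pull π y) := fun p =>
  let ⟨U, hp, hU⟩ := h (π p)
  ⟨π ⁻¹ᵁ U, hp, hasSec_pull π hU⟩

theorem gen_mul_of_ample {M : Y.Modules} (hM : PicF.IsInvertible M) (hMa : CohB1.IsAmple M) (y : Pic Y) :
    ∃ n₀ : ℕ, ∀ n, n₀ ≤ n → Gen (clsMod hM ^ n * y) := by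
  obtain ⟨c, ⟨e⟩⟩ := exists_cocycle hM
  obtain ⟨hc, hamp⟩ := (c.isAmple_iff e).1 hMa
  obtain ⟨c'⟩ := y
  obtain ⟨n₀, hn⟩ := c.eventually_isGenerated c' hamp
  refine ⟨n₀, fun n h p => ?_⟩
  obtain ⟨B, hB⟩ := hn n h p
  refine ⟨_, hB, _, B, ?_, rfl⟩
  rw [cls_prod, clsMod_eq hM e]
  congr 1
  obtain ⟨i⟩ := c.nonempty_pow_twist n 1
  obtain ⟨j⟩ := c.nonempty_tensorPow_iso e n
  rw [← clsMod_eq hM e, ← clsMod_tensorPow hM, clsMod_eq _ (j ≪≫ eqToIso (congrArg c.twist (mul_one n).symm) ≪≫ i.symm)]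

section Contraction

variable (π : X ⟶ Y) [UniversallyClosed π] (hπ : ∀ U : Y.Opens, IsIso (π.app U))

include hπ in
theorem bijective_app (U : Y.Opens) : Function.Bijective (π.app U) :=
  (ConcreteCategory.isIso_iff_bijective _).1 (hπ U)

include hπ in
theorem surjective : Function.Surjective π := fun y => by
  by_contra hy
  let V : Y.Opens := ⟨(π '' (Set.univ : Set X))ᶜ, (π.isClosedMap _ isClosed_univ).isOpen_compl⟩
  have hV : π ⁻¹ᵁ V = ⊥ := le_bot_iff.1 fun x hx => hx ⟨x, trivial, rfl⟩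
  haveI : Subsingleton Γ(X, π ⁻¹ᵁ V) := by rw [hV]; infer_instance
  have h01 : (1 : Γ(Y, V)) = 0 := (bijective_app π hπ V).1 (Subsingleton.elim _ _)
  have hyV : y ∈ V := fun ⟨x, _, hx⟩ => hy ⟨x, hx⟩
  have := congrArg (Y.presheaf.germ V y hyV) h01
  rw [map_one, map_zero] at this
  exact one_ne_zero this

include hπ in
theorem exists_open_of_hasSec {y : Pic Y} {U : X.Opens} (h : HasSec (pull π y) U) :
    ∃ E : Y.Opens, π ⁻¹ᵁ E = U := by
  obtain ⟨d⟩ := y
  obtain ⟨d', b, hd, rfl⟩ := h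
  obtain ⟨e'⟩ := cls_eq_iff.1 (show cls (d.comap π) = cls d' from hd.symm)
  obtain ⟨s, hs⟩ := d'.exists_section_of_sect e' b
  obtain ⟨a, ha⟩ := (d.comap π).exists_sect_of_section (Iso.refl _) s
  choose h hh using fun i => (bijective_app π hπ ((⊤ : Y.Opens) ⊓ d.D i)).2 (a.1 i)
  refine ⟨⨆ i, Y.basicOpen (h i), ?_⟩
  rw [Scheme.Hom.preimage_iSup]
  refine Eq.trans ?_ (ha.trans hs)
  refine iSup_congr fun (i : d.ι) => ?_
  rw [Scheme.preimage_basicOpen]
  exact congrArg X.basicOpen (hh i)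

include hπ in
/-- **Descent**: a generated class with a power coming from the base comes from the base. -/
theorem exists_pull_eq {x : Pic X} (hgen : Gen x) {m : ℕ} (hm : 0 < m) {y : Pic Y} (hy : pull π y = x ^ m) :
    ∃ z : Pic Y, pull π z = x := by
  obtain ⟨c⟩ := x
  change Gen (cls c) at hgen
  change pull π y = cls c ^ m at hy
  -- saturated trivialising opens
  have key : ∀ q : Y, ∃ (E : Y.Opens) (t : Γ(c.twist 1, π ⁻¹ᵁ E)), q ∈ E ∧ IsGen (c.twist 1) (π ⁻¹ᵁ E) t := by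
    intro q
    obtain ⟨p, rfl⟩ := surjective π hπ q
    obtain ⟨U, hp, hU⟩ := hgen p
    obtain ⟨E, hE⟩ := exists_open_of_hasSec π hπ (y := y) (U := U) (by
      rw [hy, ← Nat.sub_add_cancel hm]; exact hasSec_pow hU _)
    obtain ⟨d, b, hd, rfl⟩ := hU
    obtain ⟨e'⟩ := cls_eq_iff.1 hd.symm
    obtain ⟨s, hs⟩ := d.exists_section_of_sect e' b
    obtain ⟨a, ha⟩ := c.exists_sect_of_section (Iso.refl _) s
    have hEa : π ⁻¹ᵁ E = c.locus a := hE.trans (ha.trans hs).symm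
    exact ⟨E, c.sectRes le_top a, show p ∈ π ⁻¹ᵁ E from hE.symm ▸ hp, by rw [hEa]; exact c.isGen_sectRes_locus a⟩
  choose E t hqE ht using key
  -- transition functions
  have hex : ∀ q r, ∃ g : Γ(Y, E q ⊓ E r), (mres (c.twist 1) (π.preimage_mono inf_le_right) (t r) :
      Γ(c.twist 1, π ⁻¹ᵁ (E q ⊓ E r))) = π.app _ g • mres (c.twist 1) (π.preimage_mono inf_le_left) (t q) := by
    intro q r
    obtain ⟨u, hu⟩ := ((ht q).restrict (π.preimage_mono (inf_le_left : E q ⊓ E r ≤ E q))).exists_smul_eq le_rfl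
      (mres (c.twist 1) (π.preimage_mono inf_le_right) (t r))
    rw [InvExt.mres_self] at hu
    obtain ⟨g, hg⟩ := (bijective_app π hπ _).2 u
    exact ⟨g, by rw [hg]; exact hu⟩
  choose g hg using hex
  have hres : ∀ (q r : Y) (W : X.Opens) (V : Y.Opens) (hVq : V ≤ E q) (hVr : V ≤ E r) (hW : W ≤ π ⁻¹ᵁ V),
      mres (c.twist 1) (hW.trans (π.preimage_mono hVr)) (t r) =
        π.appLE V W hW (res (le_inf hVq hVr) (g q r)) •
          mres (c.twist 1) (hW.trans (π.preimage_mono hVq)) (t q) := by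
    intro q r W V hVq hVr hW
    have h := congrArg (mres (c.twist 1) (hW.trans (π.preimage_mono (le_inf hVq hVr)))) (hg q r)
    rw [InvExt.mres_mres, Ample.mres_smul', InvExt.mres_mres] at h
    rw [appLE_res]
    refine h.trans ?_
    rw [Scheme.Hom.app_eq_appLE, res_appLE]
  have hinj : ∀ (q : Y) (V : Y.Opens) (hV : V ≤ E q) (u u' : Γ(Y, V)),
      π.appLE V (π ⁻¹ᵁ V) le_rfl u • mres (c.twist 1) (π.preimage_mono hV) (t q) =
        π.appLE V (π ⁻¹ᵁ V) le_rfl u' • mres (c.twist 1) (π.preimage_mono hV) (t q) → u = u' :=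
    fun q V hV u u' h => (bijective_app π hπ V).1 (by
      rw [Scheme.Hom.app_eq_appLE]; exact (ht q).smul_left_injective (π.preimage_mono hV) h)
  let d : Cocycle Y :=
    { ι := Y
      D := E
      g := g
      cover := eq_top_iff.2 fun q _ => Opens.mem_iSup.2 ⟨q, hqE q⟩
      self := fun q W h => hinj q W h _ _ (by rw [← hres q q (π ⁻¹ᵁ W) W h h le_rfl, map_one, one_smul])
      change := fun q r s W hq hr hs => hinj q W hq _ _ (by
        rw [← hres q s (π ⁻¹ᵁ W) W hq hs le_rfl, hres r s (π ⁻¹ᵁ W) W hr hs le_rfl,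
          hres q r (π ⁻¹ᵁ W) W hq hr le_rfl, smul_smul, map_mul, mul_comm]) }
  refine ⟨cls d, ?_⟩
  change cls (d.comap π) = cls c
  have hfam : (d.comap π).IsFamily 1 (M := c.twist 1) t := by
    intro (q : Y) (r : Y) W (hq : W ≤ π ⁻¹ᵁ E q) (hr : W ≤ π ⁻¹ᵁ E r)
    rw [pow_one, Cocycle.comap_G]
    have h := hres q r W (E q ⊓ E r) inf_le_left inf_le_right (le_inf hq hr)
    rw [res_self] at h
    exact h
  haveI := (d.comap π).isIso_homOfFamily hfam ht
  exact cls_eq_iff.2 ⟨asIso ((d.comap π).homOfFamily hfam)⟩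

end Contraction

/-- The exponents of `L` which descend are the multiples of the exponent of global generation. -/
theorem descends_iff (π : X ⟶ Y) [UniversallyClosed π] (hπ : ∀ U : Y.Opens, IsIso (π.app U)) {l : Pic X}
    {M : Y.Modules} (hM : PicF.IsInvertible M) (hMa : CohB1.IsAmple M) {m : ℕ} (hm : 0 < m)
    (h0 : pull π (clsMod hM) = l ^ m) {d : ℕ} (hd : 0 < d)
    (hexp : ∃ m0 : ℕ, ∀ n : ℕ, m0 ≤ n → (Gen (l ^ n) ↔ d ∣ n)) (e : ℕ) :
    (∃ z : Pic Y, pull π z = l ^ e) ↔ d ∣ e := by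
  obtain ⟨m0, hexp⟩ := hexp
  constructor
  · rintro ⟨z, hz⟩
    obtain ⟨q0, hq⟩ := gen_mul_of_ample hM hMa z
    have h : ∀ q, max q0 m0 ≤ q → d ∣ m * q + e := by
      intro q hle
      refine (hexp _ ?_).1 ?_
      · have := Nat.le_mul_of_pos_left q hm
        omega
      · have := gen_pull π (hq q (le_of_max_le_left hle))
        rwa [map_mul, map_pow, h0, hz, ← pow_mul, ← pow_add] at this
    have h1 := h _ le_rfl
    have h2 := h _ (Nat.le_succ (max q0 m0))
    have hdm : d ∣ m := by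
      have := Nat.dvd_sub h2 h1
      rwa [show m * (max q0 m0).succ + e - (m * max q0 m0 + e) = m by rw [Nat.mul_succ]; omega] at this
    exact (Nat.dvd_add_right (hdm.mul_right _)).1 h1
  · rintro ⟨j, rfl⟩
    have hn : ∀ i, m0 ≤ d * i → ∃ z : Pic Y, pull π z = l ^ (d * i) := fun i hi =>
      exists_pull_eq π hπ ((hexp _ hi).2 (dvd_mul_right _ _)) hm (y := clsMod hM ^ (d * i))
        (by rw [map_pow, h0, ← pow_mul, ← pow_mul, mul_comm])
    have hle : m0 ≤ d * m0 := Nat.le_mul_of_pos_left _ hd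
    obtain ⟨z, hz⟩ := hn m0 hle
    obtain ⟨z', hz'⟩ := hn (m0 + j) (hle.trans (Nat.mul_le_mul_left _ (Nat.le_add_right _ _)))
    refine ⟨z⁻¹ * z', ?_⟩
    rw [map_mul, map_inv, hz, hz', Nat.mul_add, pow_add, inv_mul_cancel_left]

end GrothLib.PicDescend29
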